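import Mathlib
import Cfsg.Agent.Lib.Comput.Check3
import Cfsg.Agent.Lib.HSR3.Q.Data

/-! generated by tools/cgt -/

set_option autoImplicit false
set_option maxRecDepth 100000
set_option Elab.async false

namespace CfsgLib.HSR3.Q

open CfsgLib.Comput

def R8_0 : RepC := ⟨30, 1, [],
  []⟩
def S8_0 : GenC := ⟨30, [],
  [(0, 0, 0, 1, 0), (0, 1, 0, 0, 0)], 0⟩
def L8 : Level := ⟨0x0, 0x20000000, [], 1, 0, 0, 2, [R8_0], [S8_0]⟩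
def X8 : Ext := []

def R7_0 : RepC := ⟨31, 1, [(30, 30)],
  [(0, 1, [1])]⟩
def S7_0 : GenC := ⟨31, [(30, 30)],
  [(0, 0, 0, 1, 0), (0, 1, 0, 0, 0)], 0⟩
def L7 : Level := ⟨0x20000000, 0x60000000, [30], 2, 5, 0, 2, [R7_0], [S7_0]⟩
def X7 : Ext := []

def R6_0 : RepC := ⟨27, 1, [(31, 31), (30, 30)],
  [(163, 1, [1, 2])]⟩
def R6_1 : RepC := ⟨29, 1, [(30, 30), (31, 31)],
  [(19, 1, [1, 2])]⟩
def R6_2 : RepC := ⟨0x1d1b, 1, [(31, 31), (0x1f1e, 0x1f1e)],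
  [(0, 1, [1, 2])]⟩
def S6_0 : GenC := ⟨27, [(30, 30)],
  [(0, 0, 0, 1, 0), (0, 1, 0, 0, 0), (0, 2, 0, 3, 0), (0, 3, 0, 2, 0)], 0⟩
def S6_1 : GenC := ⟨29, [(30, 30)],
  [(0, 0, 0, 2, 0), (0, 1, 0, 3, 0), (0, 2, 0, 0, 0), (0, 3, 0, 1, 0)], 0⟩
def L6 : Level := ⟨0x60000000, 0x7c200000, [31, 30], 4, 4, 0, 4, [R6_0, R6_1, R6_2], [S6_0, S6_1]⟩
def X6 : Ext := [(21, 0, 0x1b1f), (27, 0, 0x1b1e)]

def R5_0 : RepC := ⟨23, 1, [(29, 0x1f1e), (27, 0x1b1f), (0x1f1e, 0x1d1f1e), (30, 0x1d1b1f1e)],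
  [(139, 1, [1, 2, 3, 4])]⟩
def R5_1 : RepC := ⟨24, 1, [(31, 0x1b1f), (27, 31), (29, 0x1d1f1e), (30, 0x1d1b1f)],
  [(154, 1, [1, 2, 3, 4])]⟩
def S5_0 : GenC := ⟨24, [(29, 0x1f1e)],
  [(0, 0, 0, 2, 0), (0, 1, 0, 0, 0), (0, 2, 0, 1, 0)], 0⟩
def L5 : Level := ⟨0x7c200000, 0x7fe00000, [27, 29, 31, 30], 16, 217, 0, 3, [R5_0, R5_1], [S5_0]⟩
def X5 : Ext := [(22, 24, 0), (24, 0, 0x171d1f1e), (25, 25, 0)]

def R4_0 : RepC := ⟨20, 3, [(0x1b1e, 0x1b1f1e), (27, 0x1d1f), (31, 0x1b1e), (0x1d1e, 0x1b1f)],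
  [(12, 1, [1, 2, 3, 4])]⟩
def S4_0 : GenC := ⟨18, [(30, 0x1b1e)],
  [(0, 0, 24, 1, 29), (23, 1, 0, 0, 0x171f1e), (24, 1, 23, 1, 24), (0, 1, 0, 1, 0x171f1e)], 0⟩
def L4 : Level := ⟨0x7fe00000, 0x7fff0000, [24, 27, 29, 31, 30], 48, 210, 0, 4, [R4_0], [S4_0]⟩
def X4 : Ext := [(16, 18, 0), (18, 0, 0x11181f1e), (19, 19, 0), (20, 0, 0x1d1f)]

def R3_0 : RepC := ⟨0x120e, 4, [(0x181f, 0x14181d1b1e), (29, 0x1d1e), (0x181b1f, 0x14181f)],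
  [(120, 3, [1, 2, 3])]⟩
def S3_0 : GenC := ⟨14, [(0x14181e, 0x12171d)],
  [(0, 0, 17, 1, 0), (17, 1, 0, 0, 0x1d1f), (0, 1, 18, 1, 0x111b1f)], 2⟩
def L3 : Level := ⟨0x7fff0000, 0x7ffff000, [18, 24, 27, 29, 31, 30], 192, 191, 0, 5, [R3_0], [S3_0]⟩
def X3 : Ext := [(12, 14, 0), (14, 0, 0x180e181d1b), (15, 15, 0)]

def R2_0 : RepC := ⟨9, 20, [(0xf141e, 0xe111d1b1f), (0x10171b, 0xf181f), (27, 0xe14181d1b1f)],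
  [(15, 3, [1, 2, 3])]⟩
def S2_0 : GenC := ⟨10, [(0x1d1e, 0x120e11181d1f1e), (0x10171d1e, 0x1b1f1e), (0x14181d1f, 0x120e1d1f1e)],
  [(0, 0, 23, 1, 0x120e111e), (0, 1, 0, 0, 0), (23, 1, 0x181e, 1, 0xe14171d1b1f1e), (31, 1, 17, 1, 0x1d1b1f1e)], 2⟩
def L2 : Level := ⟨0x7ffff000, 0x7fffff00, [14, 18, 24, 27, 29, 31, 30], 960, 180, 0, 21, [R2_0], [S2_0]⟩
def X2 : Ext := [(8, 10, 0), (10, 0, 0xa101218), (11, 11, 0)]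

def R1_0 : RepC := ⟨0x907, 21, [(0x171d, 0x111b), (0xe12171f, 0x11171b), (0xe17, 0x140912181b1f1e)],
  [(126, 4, [1, 2, 3]), (86, 3, [1, 2])]⟩
def S1_0 : GenC := ⟨6, [(0x1a090f111b1e, 0x190a120e14181b1f1e), (0xc111d1b1f, 0xd0a0f121b1f)],
  [(0, 0, 0xd09, 1, 0x1d0a120e181b1e), (0xb0a, 1, 0, 0, 0x1e0a0f181b1f), (0, 1, 9, 1, 0x911181e)], 5⟩
def L1 : Level := ⟨0x7fffff00, 0x7ffffff0, [10, 14, 18, 24, 27, 29, 31, 30], 20160, 179, 0, 22, [R1_0], [S1_0]⟩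
def X1 : Ext := [(4, 6, 0), (6, 0, 0xc051e0a0f181b1f), (7, 7, 0)]

def R0_0 : RepC := ⟨33, 22, [(0x1409120e11171d1b1e, 0xe07090c1012), (0xf141d1b1f1e, 0xb1b06170a1014171d1f), (0x1d0a17, 0x606150910171b1f)],
  [(120, 5, [1, 2, 3]), (30, 7, [1, 2]), (156, 2, [1])]⟩
def R0_1 : RepC := ⟨1, 77, [(0x1e070d0a0f141d, 0x1509120e111f), (0xf060b0a0f14181e, 0x71e090e141d1b), (0x9071e0a120e1b, 0xb1b060f1e0a0f11181d1f), (0x90c0f11171d1f1e, 0xf06090c12171b1e)],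
  [(43, 4, [1, 2, 3, 4]), (122, 3, [1, 2, 3]), (0, 1, [1])]⟩
def S0_0 : GenC := ⟨32, [(0x90c101f, 0x11070a0e12181f1e), (0xf1e, 0xb1b060c0f181d)],
  [(0, 0, 0x1e07, 1, 0x1e071d0a120e141b1f1e), (0, 2, 0xb1e, 2, 0xe070d090f1d1b), (0, 1, 0, 0, 0), (7, 1, 0x717, 2, 0x1b061e0a0e181d1b1f1e), (6, 2, 0xa05, 1, 0x9070f0a14181d1f1e)], 5⟩
def L0 : Level := ⟨0x7ffffff0, 0x1ffffffff, [6, 10, 14, 18, 24, 27, 29, 31, 30], 443520, 176, 0, 100, [R0_0, R0_1], [S0_0]⟩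
def X0 : Ext := [(32, 32, 0), (0, 0, 0x521172009070d0a14181d), (1, 1, 0), (2, 0, 0x160208190a171e), (3, 3, 0)]

def top : List ℕ := [1, 3]
def gs : List ℕ := [32, 6, 10, 14, 18, 24, 27, 29, 31, 30]
def XD : Ext := [(1, 1, 0), (3, 3, 0), (4, 0, 0x20302020302020301), (5, 5, 0), (6, 0, 0x1010301030101010103), (7, 7, 0), (8, 0, 0x7050805050705), (9, 9, 0), (10, 0, 0x706080805), (11, 11, 0), (12, 0, 0xb09090b0a), (13, 13, 0), (14, 0, 0xa0a0b0b0b09090b09), (15, 15, 0), (16, 0, 0x100e10100d), (17, 17, 0), (18, 0, 0xe0f0f0f), (19, 19, 0), (20, 0, 0xe0e), (21, 0, 0x121511), (22, 0, 0x111312), (23, 23, 0), (24, 0, 0x1411), (25, 25, 0), (26, 0, 0x181a161917), (27, 0, 0x161a1a18), (28, 0, 0x171917), (29, 0, 0x1d1c1d1b), (30, 0, 0x1b16), (31, 0, 0x202), (32, 32, 0)]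

/-- all the equations of the certificate -/
structure Eqs {G : Type*} [Group G] (g : ℕ → G) : Prop where
  l8 : AllHold g L8.eqns
  x8 : AllHold g X8.eqns
  l7 : AllHold g L7.eqns
  x7 : AllHold g X7.eqns
  l6 : AllHold g L6.eqns
  x6 : AllHold g X6.eqns
  l5 : AllHold g L5.eqns
  x5 : AllHold g X5.eqns
  l4 : AllHold g L4.eqns
  x4 : AllHold g X4.eqns
  l3 : AllHold g L3.eqns
  x3 : AllHold g X3.eqns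
  l2 : AllHold g L2.eqns
  x2 : AllHold g X2.eqns
  l1 : AllHold g L1.eqns
  x1 : AllHold g X1.eqns
  l0 : AllHold g L0.eqns
  x0 : AllHold g X0.eqns
  xd : AllHold g XD.eqns

end CfsgLib.HSR3.Q
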